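import Groth.Agent.LimModel.FgSubalgebra
import Groth.Agent.LimMore.OverBase
import Groth.Agent.Chow.Cover

/-!
# Proper morphisms descend to noetherian stages; models of proper flat morphisms over subrings of finite type
-/

set_option autoImplicit false
set_option backward.isDefEq.respectTransparency false
set_option linter.style.haveILetI false

universe u

open CategoryTheory CategoryTheory.Limits AlgebraicGeometry

namespace Groth.Agent.ProperModel

open LimDesc

/-- Properness descends to a stage of a limit with affine transition maps from a noetherian stage. -/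
theorem exists_isProper_stage {I : Type u} [SmallCategory I] [IsCofiltered I] (D : I ⥤ Scheme.{u})
    [∀ {i j} (f : i ⟶ j), IsAffineHom (D.map f)] {c : Cone D} (hc : IsLimit c) {i₀ : I}
    [IsLocallyNoetherian (D.obj i₀)] [CompactSpace (D.obj i₀)] [QuasiSeparatedSpace (D.obj i₀)]
    {X₀ : Scheme.{u}} (f₀ : X₀ ⟶ D.obj i₀) [IsSeparated f₀] [LocallyOfFiniteType f₀] [QuasiCompact f₀]
    {X : Scheme.{u}} {a : X ⟶ c.pt} {g : X ⟶ X₀} (h : IsPullback g a f₀ (c.π.app i₀)) [IsProper a] :
    ∃ (i : I) (φ : i ⟶ i₀), IsProper (pullback.snd f₀ (D.map φ)) := by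
  have : CompactSpace X₀ := QuasiCompact.compactSpace_of_compactSpace f₀
  have : QuasiSeparatedSpace X₀ := quasiSeparatedSpace_of_quasiSeparated f₀
  have : IsLocallyNoetherian X₀ := LocallyOfFiniteType.isLocallyNoetherian f₀
  have : IsNoetherian X₀ := {}
  obtain ⟨N, X', π, j, hj, hjt, hπ, hsurj, -⟩ :=
    Chow.exists_chow f₀ TopologicalSpace.NoetherianSpace.finite_irreducibleComponents
  let t := CohB1.ProjSpaceOver.toBase N (D.obj i₀)
  haveI := hj; haveI := hπ; haveI := hsurj
  haveI : IsProper t := Chow.isProper_toBase N _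
  haveI : QuasiCompact (j ≫ t) := by rw [hjt]; infer_instance
  haveI : QuasiSeparated (j ≫ t) := by rw [hjt]; infer_instance
  haveI : LocallyOfFiniteType j := by
    have : LocallyOfFiniteType (j ≫ t) := by rw [hjt]; infer_instance
    exact locallyOfFiniteType_of_comp j t
  let q := pullback.fst t (c.π.app i₀)
  let f' := pullback.snd j q
  have hbig : IsPullback (pullback.fst j q) (f' ≫ pullback.snd t (c.π.app i₀)) (π ≫ f₀) (c.π.app i₀) := by
    rw [← hjt]
    exact (IsPullback.of_hasPullback j q).paste_vert (IsPullback.of_hasPullback t (c.π.app i₀))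
  let r := h.lift (pullback.fst j q ≫ π) (f' ≫ pullback.snd t (c.π.app i₀)) (by
    rw [Category.assoc]; exact hbig.w)
  have hr : IsPullback (pullback.fst j q) r π g :=
    IsPullback.of_bot (by rw [h.lift_snd]; exact hbig) (h.lift_fst _ _ _).symm h
  haveI : IsProper r := MorphismProperty.of_isPullback (P := @IsProper) hr hπ
  haveI : IsProper (f' ≫ pullback.snd t (c.π.app i₀)) := by
    rw [← h.lift_snd (pullback.fst j q ≫ π) (f' ≫ pullback.snd t (c.π.app i₀)) (by
      rw [Category.assoc]; exact hbig.w)]
    exact inferInstanceAs (IsProper (r ≫ a))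
  haveI : IsProper f' := IsProper.of_comp f' (pullback.snd t (c.π.app i₀))
  haveI : IsClosedImmersion f' :=
    IsClosedImmersion.of_isPreimmersion f' f'.isClosedMap.isClosed_range
  obtain ⟨i, φ, Xi, Yi, fi, gi, pY, pX, hYi, hXi, hfi⟩ :=
    LimMore.exists_isClosedImmersion_lft D c hc j t (IsPullback.of_hasPullback t (c.π.app i₀))
      (IsPullback.of_hasPullback j q)
  haveI := hfi
  haveI : IsProper gi := MorphismProperty.of_isPullback (P := @IsProper) hYi inferInstance
  have hbig' : IsPullback pX (fi ≫ gi) (π ≫ f₀) (D.map φ) := by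
    rw [← hjt]; exact hXi.paste_vert hYi
  let ri : Xi ⟶ pullback f₀ (D.map φ) := pullback.lift (pX ≫ π) (fi ≫ gi) (by
    rw [Category.assoc]; exact hbig'.w)
  have hri : IsPullback pX ri π (pullback.fst f₀ (D.map φ)) :=
    IsPullback.of_bot (by rw [pullback.lift_snd]; exact hbig') (pullback.lift_fst _ _ _).symm
      (IsPullback.of_hasPullback _ _)
  haveI : Surjective ri := MorphismProperty.of_isPullback (P := @Surjective) hri hsurj
  haveI : UniversallyClosed (ri ≫ pullback.snd f₀ (D.map φ)) := by
    rw [pullback.lift_snd]; infer_instance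
  haveI : UniversallyClosed (pullback.snd f₀ (D.map φ)) := UniversallyClosed.of_comp_surjective ri _
  haveI : IsSeparated (pullback.snd f₀ (D.map φ)) := MorphismProperty.pullback_snd _ _ inferInstance
  haveI : LocallyOfFiniteType (pullback.snd f₀ (D.map φ)) := MorphismProperty.pullback_snd _ _ inferInstance
  exact ⟨i, φ, IsProper.mk⟩

/-- A proper flat morphism of finite presentation to an affine scheme comes from a subring of finite type. -/
theorem exists_model {A : Type u} [CommRing A] {X : Scheme.{u}} (f : X ⟶ Spec (CommRingCat.of A))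
    [IsProper f] [Flat f] [LocallyOfFinitePresentation f] :
    ∃ A₀ : Subalgebra ℤ A, A₀.FG ∧ ∃ (X₀ : Scheme.{u}) (f₀ : X₀ ⟶ Spec (CommRingCat.of ↥A₀)) (g : X ⟶ X₀),
      IsProper f₀ ∧ Flat f₀ ∧ LocallyOfFinitePresentation f₀ ∧
        IsPullback g f f₀ (Spec.map (CommRingCat.ofHom (algebraMap (↥A₀) A))) := by
  let D := LimModel.fgDiagram A
  let c := LimModel.fgCone A
  let hc := LimModel.fgIsLimit A
  haveI : IsCofiltered (LimModel.FgSub A)ᵒᵖ := isCofiltered_op_of_isFiltered _
  haveI : ∀ {i j : (LimModel.FgSub A)ᵒᵖ} (f : i ⟶ j), IsAffineHom (D.map f) := fun f =>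
    inferInstanceAs (IsAffineHom ((LimModel.fgDiagram A).map f))
  haveI : ∀ i : (LimModel.FgSub A)ᵒᵖ, IsAffine (D.obj i) := fun i => inferInstanceAs (IsAffine (Spec _))
  haveI : ∀ i : (LimModel.FgSub A)ᵒᵖ, IsLocallyNoetherian (D.obj i) := fun i => by
    have := Algebra.FiniteType.isNoetherianRing ℤ i.unop.1
      (h := i.unop.1.fg_iff_finiteType.mp i.unop.2)
    exact inferInstanceAs (IsLocallyNoetherian (Spec (CommRingCat.of i.unop.1)))
  let a : X ⟶ c.pt := f
  haveI : IsProper a := ‹IsProper f›
  haveI : Flat a := ‹Flat f›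
  haveI : LocallyOfFinitePresentation a := ‹LocallyOfFinitePresentation f›
  obtain ⟨i, Xi, fi, g, h1, h2, h3, h4⟩ := LimModel.exists_model D c hc a
  haveI := h1; haveI := h2; haveI := h3
  have : CompactSpace Xi := QuasiCompact.compactSpace_of_compactSpace fi
  obtain ⟨j₁, hj₁⟩ := LimMore.exists_isSeparated_of_compactSpace D c hc fi (𝟙 _) (LimMore.isPullback_id D c) h4
  obtain ⟨j₂, hj₂⟩ := LimMore.descendsToStage_flat D c hc fi (𝟙 _) (LimMore.isPullback_id D c) h4 (‹Flat f› : Flat a)
  obtain ⟨l, e₁, e₂, -⟩ := IsCofilteredOrEmpty.cone_objs j₁ j₂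
  haveI : IsSeparated (toStage D fi l) := (LimMore.stageMap_id_iff D fi @IsSeparated l).1
    (MorphismProperty.of_isPullback (P := @IsSeparated) (isPullback_trans_stageMap D (𝟙 _) fi e₁) hj₁)
  haveI : Flat (toStage D fi l) := (LimMore.stageMap_id_iff D fi @Flat l).1
    (MorphismProperty.of_isPullback (P := @Flat) (isPullback_trans_stageMap D (𝟙 _) fi e₂) hj₂)
  haveI : LocallyOfFinitePresentation (toStage D fi l) :=
    MorphismProperty.of_isPullback (P := @LocallyOfFinitePresentation) (isPullback_stage D fi l) h1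
  haveI : QuasiCompact (toStage D fi l) :=
    MorphismProperty.of_isPullback (P := @QuasiCompact) (isPullback_stage D fi l) h2
  have hl := isPullback_proj D fi c h4 l
  obtain ⟨k, φ, hk⟩ := exists_isProper_stage D hc (i₀ := l.left) (toStage D fi l) hl
  refine ⟨k.unop.1, k.unop.2, pullback (toStage D fi l) (D.map φ), pullback.snd _ _,
    proj D (toStage D fi l) c hl (Over.mk φ), hk, MorphismProperty.pullback_snd _ _ inferInstance,
    MorphismProperty.pullback_snd _ _ inferInstance, ?_⟩
  exact isPullback_proj D (toStage D fi l) c hl (Over.mk φ)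

end Groth.Agent.ProperModel
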